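import Mathlib

/-! Lifting finite field extensions of residue fields to finite free algebras. -/

set_option autoImplicit false
universe u

open Polynomial

namespace Groth.Agent.FreeLift3

variable {R L : Type u} [CommRing R] [Field L] [Algebra R L]

theorem exists_step (p : Ideal R) (S : Type u) [CommRing S] [Algebra R S] [Module.Finite R S]
    [Module.Free R S] (φ : S →ₐ[R] L) (hφ : RingHom.ker φ = p.map (algebraMap R S)) (α : L)
    (hα : IsIntegral (Subfield.closure (Set.range φ)) α) :
    ∃ (S' : Type u) (_ : CommRing S') (_ : Algebra R S') (_ : Module.Finite R S') (_ : Module.Free R S')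
      (φ' : S' →ₐ[R] L), RingHom.ker φ' = p.map (algebraMap R S') ∧
        insert α (Set.range φ) ⊆ Subfield.closure (Set.range φ') := by
  classical
  set K := Subfield.closure (Set.range φ) with hKdef
  let m := minpoly K α
  let d := m.natDegree
  have hd : m.coeff d = 1 := (minpoly.monic hα).coeff_natDegree
  have hclo : Subring.closure (Set.range φ) = φ.toRingHom.range := by
    rw [show Set.range φ = (φ.toRingHom.range : Set L) from (RingHom.coe_range φ.toRingHom).symm]
    exact Subring.closure_eq _
  have hfrac : ∀ x : K, ∃ a b : S, φ b ≠ 0 ∧ φ a = (x : L) * φ b := by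
    rintro ⟨x, hx⟩
    rw [hKdef, Subfield.mem_closure_iff, hclo] at hx
    obtain ⟨_, ⟨a, rfl⟩, _, ⟨b, rfl⟩, hab⟩ := hx
    subst hab
    by_cases hb : φ b = 0
    · refine ⟨0, 1, by simp, ?_⟩
      show φ 0 = (φ a / φ b) * φ 1
      rw [map_zero, hb, div_zero, zero_mul]
    · exact ⟨a, b, hb, (div_mul_cancel₀ (φ a) hb).symm⟩
  choose A B hB hAB using fun i : ℕ => hfrac (m.coeff i)
  let c : S := ∏ i ∈ Finset.range d, B i
  have hc : φ c ≠ 0 := by rw [map_prod]; exact Finset.prod_ne_zero_iff.mpr fun i _ => hB i
  let a' : Fin d → S := fun i =>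
    A i * (∏ j ∈ (Finset.range d).erase i, B j) * c ^ (d - (i : ℕ) - 1)
  have ha' : ∀ i : Fin d, φ (a' i) = (m.coeff i : L) * φ c ^ (d - (i : ℕ)) := by
    intro i
    have : φ c = φ (B i) * φ (∏ j ∈ (Finset.range d).erase i, B j) := by
      rw [← map_mul, Finset.mul_prod_erase _ _ (Finset.mem_range.mpr i.2)]
    simp only [a', map_mul, map_pow, hAB]
    rw [show d - (i : ℕ) = d - (i : ℕ) - 1 + 1 by omega, pow_succ, this, Nat.add_sub_cancel]
    ring
  let F : S[X] := X ^ d + ∑ i : Fin d, C (a' i) * X ^ (i : ℕ)
  have hF : F.Monic := monic_X_pow_add (degree_sum_fin_lt _)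
  have hroot : F.eval₂ φ.toRingHom (φ c * α) = 0 := by
    have hm : (aeval α) m = 0 := minpoly.aeval K α
    rw [aeval_eq_sum_range, Finset.sum_range_succ, hd, one_smul] at hm
    simp only [F, eval₂_add, eval₂_X_pow, eval₂_finsetSum, eval₂_mul, eval₂_C]
    rw [show (∑ i : Fin d, φ.toRingHom (a' i) * (φ c * α) ^ (i : ℕ)) =
        φ c ^ d * ∑ i : Fin d, (m.coeff i : L) * α ^ (i : ℕ) by
      rw [Finset.mul_sum]
      refine Finset.sum_congr rfl fun i _ => ?_
      show φ (a' i) * _ = _
      rw [ha', mul_pow, show φ c ^ d = φ c ^ (d - (i : ℕ)) * φ c ^ (i : ℕ) by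
        rw [← pow_add, Nat.sub_add_cancel i.2.le]]
      ring]
    rw [mul_pow, ← mul_add, Fin.sum_univ_eq_sum_range (fun i => (m.coeff i : L) * α ^ i)]
    rw [add_comm (α ^ d)]
    exact mul_eq_zero_of_right _ hm
  have : Module.Finite S (AdjoinRoot F) := hF.finite_adjoinRoot
  have : Module.Free S (AdjoinRoot F) := hF.free_adjoinRoot
  let ψ : AdjoinRoot F →ₐ[R] L :=
    { AdjoinRoot.lift φ.toRingHom (φ c * α) hroot with
      commutes' := fun r => by
        show AdjoinRoot.lift φ.toRingHom _ hroot (algebraMap R (AdjoinRoot F) r) = _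
        rw [IsScalarTower.algebraMap_apply R S (AdjoinRoot F) r, AdjoinRoot.algebraMap_eq, AdjoinRoot.lift_of]
        exact φ.commutes r }
  have hψmk : ∀ g : S[X], ψ (AdjoinRoot.mk F g) = g.eval₂ φ.toRingHom (φ c * α) := fun g =>
    AdjoinRoot.lift_mk hroot g
  refine ⟨AdjoinRoot F, inferInstance, inferInstance, Module.Finite.trans S _, Module.Free.trans (R := R) (S := S),
    ψ, ?_, ?_⟩
  · refine le_antisymm (fun x hx => ?_) ?_
    · obtain ⟨g, rfl⟩ := AdjoinRoot.mk_surjective x
      rw [RingHom.mem_ker, hψmk] at hx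
      rw [← modByMonic_add_div g F, map_add, map_mul, AdjoinRoot.mk_self, zero_mul, add_zero]
      set r := g %ₘ F with hr
      have hrdeg : r.degree < d := by
        rcases subsingleton_or_nontrivial S with hS | hS
        · exact absurd (by rw [Subsingleton.elim c 0, map_zero]) hc
        · refine (degree_modByMonic_lt g hF).trans_le ?_
          rw [degree_add_eq_left_of_degree_lt (by rw [degree_X_pow]; exact degree_sum_fin_lt _), degree_X_pow]
      have hr0 : r.eval₂ φ.toRingHom (φ c * α) = 0 := by
        rw [← modByMonic_add_div g F, eval₂_add, eval₂_mul, hroot, zero_mul, add_zero] at hx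
        exact hx
      let z : ℕ → K := fun i => ⟨φ (r.coeff i) * φ c ^ i,
        mul_mem (Subfield.subset_closure (Set.mem_range_self _)) (pow_mem (Subfield.subset_closure (Set.mem_range_self _)) _)⟩
      let P : K[X] := ∑ i ∈ Finset.range d, C (z i) * X ^ i
      have hP0 : aeval α P = 0 := by
        have hrsum : r = ∑ i ∈ Finset.range d, C (r.coeff i) * X ^ i := by
          ext i
          rw [finsetSum_coeff]
          simp only [coeff_C_mul_X_pow]
          rw [Finset.sum_ite_eq]
          split_ifs with h
          · rfl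
          · exact coeff_eq_zero_of_degree_lt (hrdeg.trans_le (by exact_mod_cast not_lt.mp (mt Finset.mem_range.mpr h)))
        rw [hrsum, eval₂_finsetSum] at hr0
        simp only [P, map_sum, map_mul, map_pow, aeval_X, aeval_C]
        rw [← hr0]
        refine Finset.sum_congr rfl fun i _ => ?_
        rw [eval₂_mul, eval₂_C, eval₂_X_pow, mul_pow]
        show (φ (r.coeff i) * φ c ^ i) * α ^ i = φ (r.coeff i) * (φ c ^ i * α ^ i)
        ring
      have hP : P = 0 := by
        by_contra hne
        have h1 := minpoly.degree_le_of_ne_zero K α hne hP0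
        rw [degree_eq_natDegree (minpoly.ne_zero hα)] at h1
        have h2 : P.degree < d := by
          show (∑ i ∈ Finset.range d, C (z i) * X ^ i).degree < (d : WithBot ℕ)
          rw [← Fin.sum_univ_eq_sum_range (fun i => C (z i) * X ^ i)]
          exact degree_sum_fin_lt fun i : Fin d => z i
        exact absurd (h1.trans_lt h2) (lt_irrefl _)
      have hmem : r ∈ (RingHom.ker φ).map (C : S →+* S[X]) := by
        rw [Ideal.mem_map_C_iff]
        intro i
        by_cases hi : i < d
        · have := congrArg (fun t : K[X] => t.coeff i) hP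
          simp only [P, finsetSum_coeff, coeff_C_mul_X_pow, coeff_zero, Finset.sum_ite_eq, Finset.mem_range,
            hi, if_true] at this
          rw [RingHom.mem_ker]
          exact (mul_eq_zero.mp (congrArg Subtype.val this)).resolve_right (pow_ne_zero _ hc)
        · rw [coeff_eq_zero_of_degree_lt (hrdeg.trans_le (by exact_mod_cast not_lt.mp hi))]
          exact zero_mem _
      have := Ideal.mem_map_of_mem (AdjoinRoot.mk F) hmem
      rw [hφ, Ideal.map_map, Ideal.map_map] at this
      rw [IsScalarTower.algebraMap_eq R S (AdjoinRoot F)]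
      exact this
    · rw [Ideal.map_le_iff_le_comap]
      intro r hr
      rw [Ideal.mem_comap, RingHom.mem_ker, AlgHom.commutes, ← φ.commutes]
      exact RingHom.mem_ker.mp (hφ ▸ Ideal.mem_map_of_mem _ hr)
  · have hφψ : ∀ s : S, φ s ∈ Subfield.closure (Set.range ψ) := fun s =>
      Subfield.subset_closure ⟨AdjoinRoot.of F s, by
        rw [← AdjoinRoot.mk_C, hψmk, eval₂_C]; rfl⟩
    rintro y hy
    rcases Set.mem_insert_iff.mp hy with hy' | ⟨s, rfl⟩
    · rw [hy']
      have hx : φ c * α ∈ Subfield.closure (Set.range ψ) :=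
        Subfield.subset_closure ⟨AdjoinRoot.root F, by
          rw [← AdjoinRoot.mk_X, hψmk, eval₂_X]⟩
      have := div_mem hx (hφψ c)
      rwa [mul_div_cancel_left₀ _ hc] at this
    · exact hφψ s

theorem exists_finite_free_residueField (p : Ideal R) [p.IsPrime] [Algebra p.ResidueField L]
    [IsScalarTower R p.ResidueField L] [Module.Finite p.ResidueField L] :
    ∃ (S : Type u) (_ : CommRing S) (_ : Algebra R S) (_ : Module.Finite R S) (_ : Module.Free R S)
      (_ : (p.map (algebraMap R S)).IsPrime)
      (e : (p.map (algebraMap R S)).ResidueField ≃+* L),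
      ∀ r : R, e (algebraMap R (p.map (algebraMap R S)).ResidueField r) = algebraMap R L r := by
  classical
  have hκ : ∀ (K : Subfield L), Set.range (algebraMap R L) ⊆ K → ∀ x : p.ResidueField, algebraMap p.ResidueField L x ∈ K := by
    intro K hK x
    obtain ⟨a, b, -, rfl⟩ := IsFractionRing.div_surjective (R ⧸ p) x
    obtain ⟨a, rfl⟩ := Ideal.Quotient.mk_surjective a
    obtain ⟨b, rfl⟩ := Ideal.Quotient.mk_surjective b
    rw [Ideal.algebraMap_quotient_residueField_mk, Ideal.algebraMap_quotient_residueField_mk, map_div₀,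
      ← IsScalarTower.algebraMap_apply, ← IsScalarTower.algebraMap_apply]
    exact div_mem (hK ⟨a, rfl⟩) (hK ⟨b, rfl⟩)
  have hker0 : RingHom.ker (algebraMap R L) = p := by
    ext r
    rw [RingHom.mem_ker, IsScalarTower.algebraMap_apply R p.ResidueField L, map_eq_zero,
      Ideal.algebraMap_residueField_eq_zero]
  have key : ∀ s : Finset L, ∃ (S : Type u) (_ : CommRing S) (_ : Algebra R S) (_ : Module.Finite R S)
      (_ : Module.Free R S) (φ : S →ₐ[R] L), RingHom.ker φ = p.map (algebraMap R S) ∧
      (s : Set L) ⊆ Subfield.closure (Set.range φ) := by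
    intro s
    induction s using Finset.induction_on with
    | empty =>
      refine ⟨R, inferInstance, inferInstance, inferInstance, inferInstance, Algebra.ofId R L, ?_, by simp⟩
      rw [Algebra.algebraMap_self, Ideal.map_id]
      exact hker0
    | insert α t _ ih =>
      obtain ⟨S, _, _, _, _, φ, hφ, hts⟩ := ih
      have hR : Set.range (algebraMap R L) ⊆ Subfield.closure (Set.range φ) := by
        rintro _ ⟨r, rfl⟩
        exact Subfield.subset_closure ⟨algebraMap R S r, φ.commutes r⟩
      obtain ⟨q, hq, hq0⟩ := Algebra.IsIntegral.isIntegral (R := p.ResidueField) α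
      let θ : p.ResidueField →+* Subfield.closure (Set.range φ) :=
        (algebraMap p.ResidueField L).codRestrict _ (hκ _ hR)
      have hα : IsIntegral (Subfield.closure (Set.range φ)) α :=
        ⟨q.map θ, hq.map θ, by rw [eval₂_map]; exact hq0⟩
      obtain ⟨S', i1, i2, i3, i4, φ', hφ', hsub⟩ := exists_step p S φ hφ α hα
      refine ⟨S', i1, i2, i3, i4, φ', hφ', ?_⟩
      rw [Finset.coe_insert]
      refine Set.insert_subset (hsub (Set.mem_insert _ _)) (hts.trans ?_)
      exact Subfield.closure_le.mpr ((Set.subset_insert _ _).trans hsub)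
  obtain ⟨s, hs⟩ := (Module.Finite.fg_top : (⊤ : Submodule p.ResidueField L).FG)
  obtain ⟨S, i1, i2, i3, i4, φ, hφ, hsub⟩ := key s
  have hprime : (p.map (algebraMap R S)).IsPrime := hφ ▸ RingHom.ker_isPrime φ
  let l : (p.map (algebraMap R S)).ResidueField →+* L :=
    Ideal.ResidueField.lift _ φ.toRingHom hφ.ge (fun x hx => by
      refine isUnit_iff_ne_zero.mpr fun h0 => hx ?_
      show x ∈ p.map (algebraMap R S)
      exact hφ.le (RingHom.mem_ker.mpr h0))
  have hlS : ∀ x, l (algebraMap S _ x) = φ x := fun x => Ideal.ResidueField.lift_algebraMap _ _ _ _ x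
  have hlR : ∀ r : R, l (algebraMap R (p.map (algebraMap R S)).ResidueField r) = algebraMap R L r := fun r => by
    rw [IsScalarTower.algebraMap_apply R S (p.map (algebraMap R S)).ResidueField, hlS, φ.commutes]
  have hsurj : Function.Surjective l := by
    intro y
    have hle : Subfield.closure (Set.range φ) ≤ l.fieldRange :=
      Subfield.closure_le.mpr (by rintro _ ⟨x, rfl⟩; exact ⟨_, hlS x⟩)
    have hy : y ∈ Submodule.span p.ResidueField (s : Set L) := hs.symm ▸ Submodule.mem_top
    suffices y ∈ l.fieldRange from this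
    refine Submodule.span_induction (fun x hx => hle (hsub hx)) (zero_mem _) (fun a b _ _ ha hb => add_mem ha hb)
      (fun c a _ ha => ?_) hy
    rw [Algebra.smul_def]
    exact mul_mem (hκ _ (by rintro _ ⟨r, rfl⟩; exact ⟨_, hlR r⟩) c) ha
  exact ⟨S, i1, i2, i3, i4, hprime, RingEquiv.ofBijective l ⟨l.injective, hsurj⟩, hlR⟩

end Groth.Agent.FreeLift3
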